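import Cfsg.Agent.PLOC.FF1
import Cfsg.Agent.SOLV.Subnormal
import Cfsg.Agent.TECH.Conj
import Cfsg.Agent.S0597
import Cfsg.Agent.ODD.AbelemRep
import Cfsg.Agent.CLAS.SL2Sylow
import Cfsg.Agent.CLAS.SLBasic

/-!
Failure of factorization, part 2: subnormal pairs acting irreducibly on their commutator modules
(Kurzweil-Stellmacher 9.3.5) and groups acting on an elementary abelian group of order `p ^ 2`.
-/

set_option autoImplicit false
open Cfsg Subgroup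
open scoped commutatorElement Pointwise MatrixGroups CL.MSS

namespace CL.Th

variable {G : Type*} [Group G] {p : ℕ}

/-- `E` acts irreducibly on `[V, E]`. -/
def CommIrr (V E : Subgroup G) : Prop :=
  ∀ U : Subgroup G, U ≤ ⁅V, E⁆ → E ≤ normalizer (U : Set G) → U = ⊥ ∨ U = ⁅V, E⁆

theorem cj_comm_right {V E : Subgroup G} {g : G} (hg : g ∈ normalizer (V : Set G)) :
    ⁅V, g •ᶜ E⁆ = g •ᶜ ⁅V, E⁆ := by
  rw [MSS.cj_commutator, MSS.cj_eq_of_mem_normalizer hg]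

theorem CommIrr.cj {V E : Subgroup G} (h : CommIrr V E) {g : G}
    (hg : g ∈ normalizer (V : Set G)) : CommIrr V (g •ᶜ E) := by
  intro U hU hE
  rw [cj_comm_right hg] at hU ⊢
  rcases h (g⁻¹ •ᶜ U) (MSS.le_cj_iff.1 hU) (by
    rw [← MSS.cj_normalizer]
    exact MSS.cj_le_iff.1 hE) with h1 | h1
  · exact Or.inl (MSS.cj_eq_bot_iff.1 h1)
  · exact Or.inr (by rw [← h1, MSS.cj_inv_cj])

/-- A subgroup acting quadratically and faithfully is elementary abelian. -/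
theorem elemAb_of_quadratic {V H C : Subgroup G} (hV : IsElementaryAbelian p V)
    (hHV : H ≤ normalizer (V : Set G)) (hf : H ⊓ centralizer (V : Set G) = ⊥) (hC : C ≤ H)
    (hq : ⁅⁅V, C⁆, C⁆ = ⊥) : IsElementaryAbelian p C := by
  refine elemAb_iff.2 ⟨fun a ha b hb => ?_, fun a ha => ?_⟩
  · refine commutatorElement_eq_one_iff_mul_comm.1 (mem_bot.1 (hf ▸ ⟨?_, ?_⟩))
    · exact hC (comm_mem ha (le_normalizer hb))
    · exact quadratic_comm_le hq (commutator_mem_commutator ha hb)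
  · exact mem_bot.1 (hf ▸ ⟨pow_mem (hC ha) p, quadratic_pow_mem hV (hC.trans hHV) hq ha⟩)

theorem elemAb_inf_centralizer_comm {V H E : Subgroup G} (hV : IsElementaryAbelian p V)
    (hHV : H ≤ normalizer (V : Set G)) (hf : H ⊓ centralizer (V : Set G) = ⊥) (hE : E ≤ H) :
    IsElementaryAbelian p (E ⊓ centralizer ((⁅V, E⁆ : Subgroup G) : Set G)) :=
  elemAb_of_quadratic hV hHV hf (inf_le_left.trans hE)
    (le_bot_iff.1 ((commutator_mono (commutator_mono le_rfl inf_le_left) le_rfl).trans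
      (comm_eq_bot_iff'.2 inf_le_right).le))

theorem le_normalizer_inf_centralizer_comm (V E : Subgroup G) :
    E ≤ normalizer ((E ⊓ centralizer ((⁅V, E⁆ : Subgroup G) : Set G) : Subgroup G) : Set G) :=
  CL.le_normalizer_inf le_normalizer
    (CL.le_normalizer_centralizer (normalizer_commutator_ge_right V E))

section Pair

variable [Finite G] [hp : Fact p.Prime] {V H : Subgroup G}

theorem snIn_eq_bot_of_isPGroup (hOp : pCore p H = ⊥) {C : Subgroup G} (hC : SnIn H C)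
    (hpC : IsPGroup p C) : C = ⊥ := by
  have h1 := le_pCore_of_isSubnormal hC.isSubnormal_subgroupOf (MSS.isPGroup_subgroupOf hpC H)
  rw [hOp, le_bot_iff, subgroupOf_eq_bot] at h1
  exact h1.eq_bot_of_le hC.le

/-- A subnormal subgroup acts faithfully on its commutator module. -/
theorem inf_centralizer_comm_eq_bot (hV : IsElementaryAbelian p V)
    (hHV : H ≤ normalizer (V : Set G)) (hf : H ⊓ centralizer (V : Set G) = ⊥)
    (hOp : pCore p H = ⊥) {E : Subgroup G} (hE : SnIn H E) :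
    E ⊓ centralizer ((⁅V, E⁆ : Subgroup G) : Set G) = ⊥ :=
  snIn_eq_bot_of_isPGroup hOp
    (hE.trans (SnIn.of_le_normalizer inf_le_left (le_normalizer_inf_centralizer_comm V E)))
    (elemAb_isPGroup (elemAb_inf_centralizer_comm hV hHV hf hE.le))

theorem comm_inf_centralizer_eq_bot_of_irr (hV : IsElementaryAbelian p V)
    (hHV : H ≤ normalizer (V : Set G)) (hf : H ⊓ centralizer (V : Set G) = ⊥)
    (hOp : pCore p H = ⊥) {E : Subgroup G} (hE : SnIn H E) (hi : CommIrr V E) :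
    ⁅V, E⁆ ⊓ centralizer (E : Set G) = ⊥ := by
  rcases hi (⁅V, E⁆ ⊓ centralizer (E : Set G)) inf_le_left
    (CL.le_normalizer_inf (normalizer_commutator_ge_right V E)
      (CL.le_normalizer_centralizer le_normalizer)) with h | h
  · exact h
  · have h1 : E ≤ centralizer ((⁅V, E⁆ : Subgroup G) : Set G) :=
      le_centralizer_iff.1 (inf_eq_left.1 h)
    have h2 := inf_centralizer_comm_eq_bot hV hHV hf hOp hE
    rw [inf_eq_left.2 h1] at h2
    rw [h2, commutator_bot_right, bot_inf_eq]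

theorem pair_of_le_normalizer (hV : IsElementaryAbelian p V)
    (hHV : H ≤ normalizer (V : Set G)) (hf : H ⊓ centralizer (V : Set G) = ⊥)
    (hOp : pCore p H = ⊥) {E₁ E₂ : Subgroup G} (h₁ : SnIn H E₁) (h₂ : SnIn H E₂)
    (hi₂ : CommIrr V E₂) (h21 : ¬ ⁅V, E₂⁆ ≤ ⁅V, E₁⁆)
    (hn : E₂ ≤ normalizer ((⁅V, E₁⁆ : Subgroup G) : Set G)) :
    ⁅E₁, E₂⁆ = ⊥ ∧ ⁅V, E₁⁆ ⊓ ⁅V, E₂⁆ = ⊥ := by
  have h0 : ⁅V, E₁⁆ ⊓ ⁅V, E₂⁆ = ⊥ := by
    rcases hi₂ (⁅V, E₁⁆ ⊓ ⁅V, E₂⁆) inf_le_right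
      (CL.le_normalizer_inf hn (normalizer_commutator_ge_right V E₂)) with h | h
    · exact h
    · exact absurd (inf_eq_right.1 h) h21
  refine ⟨?_, h0⟩
  have h1 : ⁅⁅V, E₁⁆, E₂⁆ = ⊥ := le_bot_iff.1 (h0 ▸ le_inf (comm_le hn le_rfl)
    (commutator_mono (comm_le (h₁.le.trans hHV) le_rfl) le_rfl))
  have h2 := Cfsg.Agent.S0597.result V H hV hHV hf E₁ E₂ h₁.le h₂.le h₁.isSubnormal_subgroupOf
    h₂.isSubnormal_subgroupOf h1
  rwa [hOp, Subgroup.map_bot, le_bot_iff] at h2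

/-- Kurzweil-Stellmacher 9.3.5. -/
theorem pair_irreducible (hV : IsElementaryAbelian p V)
    (hHV : H ≤ normalizer (V : Set G)) (hf : H ⊓ centralizer (V : Set G) = ⊥)
    (hOp : pCore p H = ⊥) {E₁ E₂ : Subgroup G} (h₁ : SnIn H E₁) (h₂ : SnIn H E₂)
    (hi₁ : CommIrr V E₁) (hi₂ : CommIrr V E₂) (h12 : ¬ ⁅V, E₁⁆ ≤ ⁅V, E₂⁆)
    (h21 : ¬ ⁅V, E₂⁆ ≤ ⁅V, E₁⁆) (hc₁ : 2 < Nat.card E₁) (hc₂ : 2 < Nat.card E₂) :
    ⁅E₁, E₂⁆ = ⊥ ∧ ⁅V, E₁⁆ ⊓ ⁅V, E₂⁆ = ⊥ := by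
  obtain ⟨n, hn⟩ : ∃ n, Nat.card (E₁ ⊔ E₂ : Subgroup G) = n := ⟨_, rfl⟩
  induction n using Nat.strong_induction_on generalizing E₁ E₂ with
  | _ n ih =>
  by_cases hn₂ : E₂ ≤ normalizer ((⁅V, E₁⁆ : Subgroup G) : Set G)
  · exact pair_of_le_normalizer hV hHV hf hOp h₁ h₂ hi₂ h21 hn₂
  by_cases hn₁ : E₁ ≤ normalizer ((⁅V, E₂⁆ : Subgroup G) : Set G)
  · have := pair_of_le_normalizer hV hHV hf hOp h₂ h₁ hi₁ h12 hn₁
    rwa [commutator_comm E₂, inf_comm] at this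
  exfalso
  -- the inductive step for a conjugate pair
  have step : ∀ {F₁ F₂ : Subgroup G}, SnIn H F₁ → SnIn H F₂ → CommIrr V F₁ → 2 < Nat.card F₁ →
      Nat.card (F₁ ⊔ F₂ : Subgroup G) = n → ∀ h ∈ F₂,
      h ∉ normalizer ((⁅V, F₁⁆ : Subgroup G) : Set G) →
      ⁅F₁, h •ᶜ F₁⁆ = ⊥ ∧ ⁅V, F₁⁆ ⊓ h •ᶜ ⁅V, F₁⁆ = ⊥ := by
    intro F₁ F₂ s₁ s₂ i₁ c₁ hF h hh hhn
    have hhV : h ∈ normalizer (V : Set G) := hHV (s₂.le hh)
    have hne : F₁ ≠ F₁ ⊔ F₂ := fun h0 =>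
      hhn (normalizer_commutator_ge_right V F₁ (h0 ▸ (le_sup_right : F₂ ≤ F₁ ⊔ F₂) hh))
    obtain ⟨N, hN, hNn, hNs⟩ :=
      (s₁.mono le_sup_left (sup_le s₁.le s₂.le)).exists_lt_normal hne
    have hlt : Nat.card (F₁ ⊔ h •ᶜ F₁ : Subgroup G) < n := by
      rw [← hF]
      exact card_lt_of_lt (lt_of_le_of_lt (sup_le hNs.le
        (MSS.cj_le_of_mem_normalizer hNs.le (hNn (mem_sup_right hh)))) hN)
    rw [← cj_comm_right hhV]
    refine ih _ hlt s₁ (s₁.conj_smul_of_mem_normalizer (le_normalizer (s₂.le hh))) i₁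
      (i₁.cj hhV) ?_ ?_ c₁ (by rw [MSS.card_cj]; exact c₁) rfl
    · rw [cj_comm_right hhV]
      exact fun hle => hhn (MSS.mem_normalizer_iff_cj.2 (MSS.cj_eq_of_ge hle))
    · rw [cj_comm_right hhV]
      exact fun hle => hhn (MSS.mem_normalizer_of_cj_le hle)
  obtain ⟨h, hh, hhn⟩ := SetLike.not_le_iff_exists.1 hn₂
  obtain ⟨g, hg, hgn⟩ := SetLike.not_le_iff_exists.1 hn₁
  set V₁ := ⁅V, E₁⁆ with hV₁
  set V₂ := ⁅V, E₂⁆ with hV₂
  have hV₁V : V₁ ≤ V := comm_le (h₁.le.trans hHV) le_rfl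
  have hV₂V : V₂ ≤ V := comm_le (h₂.le.trans hHV) le_rfl
  have hVn : ∀ {A B : Subgroup G}, A ≤ V → B ≤ V → A ≤ normalizer (B : Set G) :=
    fun hA hB => (hA.trans ((elemAb_le_centralizer hV).trans (centralizer_le hB))).trans
      (centralizer_le_normalizer _)
  have hW : E₁ ⊔ E₂ ≤ normalizer ((V₁ ⊔ V₂ : Subgroup G) : Set G) := by
    rw [hV₁, hV₂, ← comm_sup_right (h₁.le.trans hHV) (h₂.le.trans hHV)]
    exact normalizer_commutator_ge_right V _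
  have hW₁ : ∀ y ∈ E₂, y •ᶜ V₁ ≤ V₁ ⊔ V₂ := fun y hy =>
    MSS.cj_le_of_mem_normalizer le_sup_left (hW (mem_sup_right hy))
  have hcjV : ∀ y ∈ H, ∀ {U : Subgroup G}, U ≤ V → y •ᶜ U ≤ V := fun y hy _ hU =>
    MSS.cj_le_of_mem_normalizer hU (hHV hy)
  have e₁ := (step h₁ h₂ hi₁ hc₁ hn h hh hhn).2
  have e₂ := (step h₂ h₁ hi₂ hc₂ (by rw [sup_comm, hn]) g hg hgn).2
  have c₁ := card_sup_of_disjoint (hVn hV₁V (hcjV h (h₂.le hh) hV₁V)) e₁
  have c₂ := card_sup_of_disjoint (hVn hV₂V (hcjV g (h₁.le hg) hV₂V)) e₂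
  rw [MSS.card_cj] at c₁ c₂
  have l₁ : V₁ ⊔ h •ᶜ V₁ ≤ V₁ ⊔ V₂ := sup_le le_sup_left (hW₁ h hh)
  have l₂ : V₂ ⊔ g •ᶜ V₂ ≤ V₁ ⊔ V₂ := sup_le le_sup_right
    (MSS.cj_le_of_mem_normalizer le_sup_right (hW (mem_sup_left hg)))
  have d₁ := card_le_of_le l₁
  have d₂ := card_le_of_le l₂
  have c₃ := card_sup_mul_card_inf_of_le_normalizer (hVn hV₁V hV₂V)
  have p₁ : 0 < Nat.card V₁ := Nat.card_pos
  have p₂ : 0 < Nat.card V₂ := Nat.card_pos
  have p₃ : 0 < Nat.card (V₁ ⊓ V₂ : Subgroup G) := Nat.card_pos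
  rw [c₁] at d₁
  rw [c₂] at d₂
  have i₁ : Nat.card V₁ * Nat.card (V₁ ⊓ V₂ : Subgroup G) ≤ Nat.card V₂ := by
    refine Nat.le_of_mul_le_mul_left ?_ p₁
    rw [← c₃, ← mul_assoc]
    exact Nat.mul_le_mul_right _ d₁
  have i₂ : Nat.card V₂ * Nat.card (V₁ ⊓ V₂ : Subgroup G) ≤ Nat.card V₁ := by
    refine Nat.le_of_mul_le_mul_left ?_ p₂
    rw [mul_comm (Nat.card V₂) (Nat.card V₁), ← c₃, ← mul_assoc]
    exact Nat.mul_le_mul_right _ d₂
  have j₁ : Nat.card V₁ = Nat.card V₂ := by nlinarith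
  have j₂ : Nat.card (V₁ ⊓ V₂ : Subgroup G) = 1 := by nlinarith
  have hinf : V₁ ⊓ V₂ = ⊥ := card_eq_one.1 j₂
  have hWeq : V₁ ⊔ h •ᶜ V₁ = V₁ ⊔ V₂ :=
    eq_of_le_of_card_ge l₁ (by rw [c₁]; nlinarith)
  have hfix := comm_inf_centralizer_eq_bot_of_irr hV hHV hf hOp h₁ hi₁
  have hcen : ∀ y ∈ E₂, y ∉ normalizer (V₁ : Set G) → y •ᶜ V₁ ≤ centralizer (E₁ : Set G) := by
    intro y hy hyn
    obtain ⟨s1, s2⟩ := step h₁ h₂ hi₁ hc₁ hn y hy hyn
    have hyV : y ∈ normalizer (V : Set G) := hHV (h₂.le hy)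
    have t1 : E₁ ≤ normalizer ((y •ᶜ V₁ : Subgroup G) : Set G) := by
      rw [hV₁, ← cj_comm_right hyV]
      refine CL.le_normalizer_commutator (h₁.le.trans hHV) ?_
      rw [commutator_comm] at s1
      exact (comm_eq_bot_iff'.1 s1).trans (centralizer_le_normalizer _)
    refine le_centralizer_iff.1 (comm_eq_bot_iff'.1 (le_bot_iff.1 (s2 ▸ le_inf ?_ ?_)))
    · exact commutator_mono (hcjV y (h₂.le hy) hV₁V) le_rfl
    · exact comm_le t1 le_rfl
  have hsame : ∀ y ∈ E₂, y ∉ normalizer (V₁ : Set G) → h⁻¹ * y ∈ normalizer (V₁ : Set G) := by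
    intro y hy hyn
    have t1 : y •ᶜ V₁ ≤ h •ᶜ V₁ := by
      have t2 := MSS.inf_sup_of_normalizes (B := V₁) (hcen h hh hhn)
        (hVn (hcjV h (h₂.le hh) hV₁V) hV₁V)
      rw [inf_comm _ V₁, hfix, sup_bot_eq, sup_comm, hWeq] at t2
      rw [← t2]
      exact le_inf (hcen y hy hyn) (hW₁ y hy)
    refine MSS.mem_normalizer_of_cj_le ?_
    rw [MSS.cj_mul]
    exact MSS.le_cj_iff.1 t1
  have hNc : ∀ y ∈ E₂, y ∈ normalizer (V₁ : Set G) → y ∈ centralizer (V₁ : Set G) := by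
    intro y hy hyn
    rw [mem_centralizer_iff]
    intro v hv
    refine commutatorElement_eq_one_iff_mul_comm.1 (mem_bot.1 (hinf ▸ ⟨comm_mem hv hyn, ?_⟩))
    exact commutator_mem_commutator (hV₁V hv) hy
  have hone : ∀ y ∈ E₂, y ∈ normalizer (V₁ : Set G) → y = 1 := by
    intro y hy hyn
    have t1 : y * h ∉ normalizer (V₁ : Set G) := fun t => hhn ((mul_mem_cancel_left hyn).1 t)
    have t2 := hNc _ (mul_mem (inv_mem hh) (mul_mem hy hh)) (hsame _ (mul_mem hy hh) t1)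
    have t3 : y ∈ centralizer ((h •ᶜ V₁ : Subgroup G) : Set G) := by
      rw [← MSS.cj_centralizer, MSS.mem_cj, mul_assoc]
      exact t2
    have t4 : y ∈ centralizer ((V₁ ⊔ V₂ : Subgroup G) : Set G) := by
      rw [← hWeq, centralizer_sup]
      exact ⟨hNc y hy hyn, t3⟩
    exact mem_bot.1 (inf_centralizer_comm_eq_bot hV hHV hf hOp h₂ ▸
      ⟨hy, centralizer_le (le_sup_right : V₂ ≤ V₁ ⊔ V₂) t4⟩)
  have hsub : (E₂ : Set G) ⊆ {1, h} := by
    intro y hy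
    by_cases hyn : y ∈ normalizer (V₁ : Set G)
    · exact Or.inl (hone y hy hyn)
    · exact Or.inr (inv_mul_eq_one.1 (hone _ (mul_mem (inv_mem hh) hy) (hsame y hy hyn))).symm
  have := (Set.ncard_le_ncard hsub).trans (Set.ncard_insert_le 1 {h})
  rw [Set.ncard_singleton, ← Nat.card_coe_set_eq] at this
  exact absurd hc₂ (not_lt.2 this)

end Pair

section Plane

variable [hp : Fact p.Prime]

/-- The action on an elementary abelian group of order `p ^ 2`, in matrices. -/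
theorem exists_hom_matrix_two {W E : Subgroup G} (hW : IsElementaryAbelian p W)
    (hc : Nat.card W = p ^ 2) (hE : E ≤ normalizer (W : Set G)) :
    ∃ φ : E →* Matrix (Fin 2) (Fin 2) (ZMod p),
      (∀ g : E, φ g = 1 ↔ (g : G) ∈ centralizer (W : Set G)) ∧
      ∀ g : E, ∀ w ∈ W, w ≠ 1 → (g : G) * w = w * g →
        ∃ v : Fin 2 → ZMod p, v ≠ 0 ∧ (φ g).mulVec v = v := by
  haveI : Finite W := Nat.finite_of_card_ne_zero (hc ▸ pow_ne_zero 2 hp.out.ne_zero)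
  let b := Module.finBasisOfFinrankEq (ZMod p) (Abelem.V hW) (Abelem.finrank_eq_of_card hc)
  refine ⟨(LinearMap.toMatrixAlgEquiv b : Module.End (ZMod p) (Abelem.V hW) →* _).comp
    (Abelem.rep hW hE), fun g => ?_, fun g w hw hw1 hgw => ?_⟩
  · rw [← Abelem.rep_eq_one_iff (hA := hE) (hE := hW)]
    exact (LinearMap.toMatrixAlgEquiv b).map_eq_one_iff
  · refine ⟨b.repr ⟨w, hw⟩, fun h0 => hw1 ?_, ?_⟩
    · have : b.repr ⟨w, hw⟩ = 0 := DFunLike.coe_injective h0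
      exact Abelem.V.val_eq_one_iff.2 (b.repr.map_eq_zero_iff.1 this)
    · have h1 : Abelem.rep hW hE g ⟨w, hw⟩ = ⟨w, hw⟩ := (Abelem.rep_apply_eq_self_iff g _).2 hgw
      have h2 := LinearMap.toMatrix_mulVec_repr b b (Abelem.rep hW hE g) ⟨w, hw⟩
      rw [h1] at h2
      exact h2

theorem exists_hom_GL_two {W E : Subgroup G} (hW : IsElementaryAbelian p W)
    (hc : Nat.card W = p ^ 2) (hE : E ≤ normalizer (W : Set G)) :
    ∃ φ : E →* GL (Fin 2) (ZMod p), φ.ker = (centralizer (W : Set G)).subgroupOf E := by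
  obtain ⟨φ, hφ, -⟩ := exists_hom_matrix_two hW hc hE
  refine ⟨φ.toHomUnits, ?_⟩
  ext g
  rw [MonoidHom.mem_ker, mem_subgroupOf, ← hφ, Units.ext_iff]
  rfl

theorem relIndex_centralizer_dvd_of_card_sq {W E : Subgroup G} (hW : IsElementaryAbelian p W)
    (hc : Nat.card W = p ^ 2) (hE : E ≤ normalizer (W : Set G)) :
    (centralizer (W : Set G)).relIndex E ∣ (p ^ 2 - 1) * (p ^ 2 - p) := by
  obtain ⟨φ, hφ⟩ := exists_hom_GL_two hW hc hE
  have h1 := SL.card_GL_two (F := ZMod p)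
  rw [Nat.card_zmod] at h1
  rw [relIndex, ← hφ, index_ker, ← h1]
  exact card_subgroup_dvd_card _

/-- A group generated by `p`-subgroups acts on a plane through `SL(2, p)`. -/
theorem exists_hom_SL_two {W E : Subgroup G} (hW : IsElementaryAbelian p W)
    (hc : Nat.card W = p ^ 2) (hE : E ≤ normalizer (W : Set G)) {S : Set (Subgroup G)}
    (hS : ∀ T ∈ S, IsPGroup p T) (hES : E = sSup S) :
    ∃ φ : E →* SL(2, ZMod p), φ.ker = (centralizer (W : Set G)).subgroupOf E ∧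
      ∀ g : E, ∀ w ∈ W, w ≠ 1 → (g : G) * w = w * g → φ g ^ p = 1 := by
  obtain ⟨φ, hφ, hfix⟩ := exists_hom_matrix_two hW hc hE
  have hdet : ∀ g : E, (φ g).det = 1 := by
    have h1 : E ≤ (Matrix.detMonoidHom.comp φ).ker.map E.subtype := by
      conv_lhs => rw [hES]
      refine sSup_le fun T hT x hx => ?_
      have hxE : x ∈ E := hES ▸ le_sSup hT hx
      refine ⟨⟨x, hxE⟩, ?_, rfl⟩
      obtain ⟨k, hk⟩ := MSS.isPGroup_iff_forall_mem.1 (hS T hT) x hx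
      have : (⟨x, hxE⟩ : E) ^ p ^ k = 1 := Subtype.ext hk
      exact SL2.det_eq_one_of_pow_char_pow p (g := φ ⟨x, hxE⟩) (k := k)
        (by rw [← map_pow, this, map_one])
    intro g
    obtain ⟨g', hg', hgg⟩ := h1 g.2
    obtain rfl : g' = g := Subtype.ext hgg
    exact hg'
  let ψ : E →* SL(2, ZMod p) :=
    { toFun := fun g => ⟨φ g, hdet g⟩
      map_one' := Subtype.ext φ.map_one
      map_mul' := fun a b => Subtype.ext (φ.map_mul a b) }
  refine ⟨ψ, ?_, fun g w hw hw1 hgw => ?_⟩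
  · ext g
    rw [MonoidHom.mem_ker, mem_subgroupOf, ← hφ]
    exact Subtype.ext_iff
  · obtain ⟨v, hv, hgv⟩ := hfix g w hw hw1 hgw
    exact SL2.pow_char_eq_one_of_fix p hv hgv

theorem card_SL_two_zmod : Nat.card SL(2, ZMod p) = p * (p ^ 2 - 1) := by
  rw [SL.card_SL_two, Nat.card_zmod]

theorem coprime_sq_sub_one : (p ^ 2 - 1).Coprime p := by
  have h1 : 1 ≤ p ^ 2 := Nat.one_le_pow _ _ hp.out.pos
  refine Nat.Coprime.symm ((Nat.Prime.coprime_iff_not_dvd hp.out).2 fun h => ?_)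
  have h2 : p ∣ p ^ 2 - (p ^ 2 - 1) := Nat.dvd_sub (dvd_pow_self p two_ne_zero) h
  rw [Nat.sub_sub_self h1] at h2
  exact hp.out.one_lt.ne' (Nat.dvd_one.1 h2)

/-- A `p`-group whose order divides `p * m` with `m` prime to `p` has order at most `p`. -/
theorem card_le_of_isPGroup_of_dvd {P : Type*} [Group P] [Finite P] (hP : IsPGroup p P) {m : ℕ}
    (hm : m.Coprime p) (h : Nat.card P ∣ p * m) : Nat.card P ≤ p := by
  obtain ⟨k, hk⟩ := hP.exists_card_eq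
  rw [hk] at h ⊢
  exact Nat.le_of_dvd hp.out.pos ((Nat.Coprime.pow_left k hm.symm).dvd_of_dvd_mul_right h)

/-- Two distinct subgroups of order `p` generate `SL(2, p)`. -/
theorem sup_eq_top_of_card_eq {P Q : Subgroup SL(2, ZMod p)} (hP : Nat.card P = p)
    (hQ : Nat.card Q = p) (hne : P ≠ Q) : P ⊔ Q = ⊤ := by
  have key : ∀ R : Subgroup SL(2, ZMod p), Nat.card R = p →
      ∃ v : Fin 2 → ZMod p, v ≠ 0 ∧ R = MulAction.stabilizer SL(2, ZMod p) v := by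
    intro R hR
    obtain ⟨v, hv, hle⟩ := SL2.exists_le_stabilizer_of_isPGroup p (isPGroup_of_card_eq hR)
    refine ⟨v, hv, eq_of_le_of_card_ge hle ?_⟩
    rw [hR]
    refine card_le_of_isPGroup_of_dvd (SL2.isPGroup_stabilizer p hv) coprime_sq_sub_one ?_
    rw [← card_SL_two_zmod]
    exact card_subgroup_dvd_card _
  obtain ⟨v, hv, rfl⟩ := key P hP
  obtain ⟨w, hw, rfl⟩ := key Q hQ
  refine SL2.stabilizer_sup_stabilizer_eq_top fun h => hne ?_
  obtain ⟨a, rfl⟩ := SL2.exists_smul_of_det_eq_zero hv h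
  exact (SL2.stabilizer_smul_eq (left_ne_zero_of_smul hw)).symm

theorem eq_two_or_three_of_commutator_ne_top (h : _root_.commutator SL(2, ZMod p) ≠ ⊤) :
    p = 2 ∨ p = 3 := by
  by_contra hcon
  push Not at hcon
  have h4 : 4 ≤ Nat.card (ZMod p) := by
    rw [Nat.card_zmod]
    have := hp.out.two_le
    omega
  obtain ⟨a, ha, ha2⟩ := SL.exists_sq_ne_one_of_four_le_card h4
  exact h (SL.commutator_eq_top_of_sq_ne_one ha ha2)

theorem not_comm_commutator_SL_two_three :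
    ¬ IsMulCommutative (_root_.commutator SL(2, ZMod 3)) := by
  intro h
  let a : SL(2, ZMod 3) := ⟨!![1, 1; 0, 1], by decide⟩
  let b : SL(2, ZMod 3) := ⟨!![1, 0; 1, 1], by decide⟩
  have := comm_iff.1 h ⁅a, b⁆ (commutator_mem_commutator (mem_top _) (mem_top _))
    ⁅a, b⁻¹⁆ (commutator_mem_commutator (mem_top _) (mem_top _))
  revert this
  decide

end Plane

end CL.Th
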