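import Cfsg.Agent.PLOC.Alperin

/-!
The focal subgroup in terms of tame intersections, and Grün's first theorem.
-/

set_option autoImplicit false

namespace CL.Tr
open Cfsg
open scoped commutatorElement Pointwise

variable {G : Type*} [Group G] {p : ℕ}

theorem Chain.inv_mul_conj_mem {ι : Type*} {D : ι → Subgroup G} {F : ι → G → Prop} {R : Subgroup G}
    (hR : ∀ i x, F i x → ∀ a ∈ D i, a⁻¹ * (x⁻¹ * a * x) ∈ R) {A : Set G} {g : G}
    (h : Chain D F A g) : ∀ a ∈ A, a⁻¹ * (g⁻¹ * a * g) ∈ R := by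
  induction h with
  | nil A => intro a _; simp
  | @cons i x A g h1 h2 _ ih =>
    intro a ha
    have h3 := mul_mem (hR i x h1 a (h2 ha)) (ih _ ⟨a, ha, rfl⟩)
    have e : a⁻¹ * ((x * g)⁻¹ * a * (x * g)) =
        a⁻¹ * (x⁻¹ * a * x) * ((x⁻¹ * a * x)⁻¹ * (g⁻¹ * (x⁻¹ * a * x) * g)) := by group
    rw [e]
    exact h3

/-- The focal subgroup lies in every subgroup containing the commutators `[a, x]` of the tame steps. -/
theorem sylow_inf_commutator_le_of_tame [Finite G] [Fact p.Prime] (P : Sylow p G) {R : Subgroup G}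
    (hR : ∀ (Q : Sylow p G) (x : G), TameStep P Q x →
      ∀ a ∈ (P : Subgroup G) ⊓ (Q : Subgroup G), a⁻¹ * (x⁻¹ * a * x) ∈ R) :
    (P : Subgroup G) ⊓ commutator G ≤ R := by
  rw [inf_comm, Subgroup.commutator_inf_eq_focalSubgroup, Subgroup.focalSubgroup_def,
    Subgroup.closure_le]
  rintro _ ⟨h1, x, hx, u, rfl⟩
  have h2 : u⁻¹⁻¹ * x⁻¹ * u⁻¹ ∈ (P : Subgroup G) := by
    have e : u⁻¹⁻¹ * x⁻¹ * u⁻¹ = x⁻¹ * ⁅x, u⁆ := by rw [commutatorElement_def]; group
    rw [e]
    exact mul_mem (inv_mem hx) h1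
  have h3 := (alperin_chain P {x⁻¹} u⁻¹ (by rintro _ rfl; exact inv_mem hx)
    (by rintro _ ⟨_, rfl, rfl⟩; exact h2)).inv_mul_conj_mem hR x⁻¹ rfl
  have e : ⁅x, u⁆ = x⁻¹⁻¹ * (u⁻¹⁻¹ * x⁻¹ * u⁻¹) := by rw [commutatorElement_def]; group
  rw [SetLike.mem_coe, e]
  exact h3

theorem inv_mul_conj_eq_commutatorElement (a x : G) : a⁻¹ * (x⁻¹ * a * x) = ⁅a⁻¹, x⁻¹⁆ := by
  rw [commutatorElement_def]; group

theorem commutator_le_of_le_normalizer {E H : Subgroup G} (h : H ≤ Subgroup.normalizer (E : Set G)) :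
    ⁅E, H⁆ ≤ E := by
  rw [Subgroup.commutator_le]
  intro a ha x hx
  rw [commutatorElement_def, mul_assoc, mul_assoc, ← mul_assoc x]
  exact mul_mem ha (conj_mem_of_mem_normalizer (h hx) (inv_mem ha))

/-- **Grün's first theorem**. -/
theorem gruen_first [Finite G] [Fact p.Prime] (P : Sylow p G) :
    (P : Subgroup G) ⊓ commutator G =
      ((P : Subgroup G) ⊓ ⁅Subgroup.normalizer ((P : Subgroup G) : Set G),
        Subgroup.normalizer ((P : Subgroup G) : Set G)⁆) ⊔
      ⨆ z : G, (P : Subgroup G) ⊓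
        (⁅(P : Subgroup G), (P : Subgroup G)⁆).map (MulAut.conj z).toMonoidHom := by
  refine le_antisymm (sylow_inf_commutator_le_of_tame P fun Q x hx a ha => ?_)
    (sup_le (inf_le_inf_left _ (Subgroup.commutator_mono le_top le_top))
      (iSup_le fun z => inf_le_inf_left _ ?_))
  · have haP : a⁻¹ * (x⁻¹ * a * x) ∈ (P : Subgroup G) :=
      mul_mem (inv_mem ha.1) (inv_conj_mem_of_mem_normalizer hx.1 ha).1
    rcases hx.2.2.2 with hQ | ⟨k, hk⟩
    · refine Subgroup.mem_sup_left (Subgroup.mem_inf.mpr ⟨haP, ?_⟩)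
      have hx1 := hx.1
      rw [hQ, inf_idem] at hx1
      rw [inv_mul_conj_eq_commutatorElement]
      exact Subgroup.commutator_mem_commutator (inv_mem (Subgroup.le_normalizer ha.1)) (inv_mem hx1)
    · have hp : IsPGroup p ↥((P : Subgroup G) ⊓ (Q : Subgroup G) ⊔ Subgroup.zpowers x) := by
        rw [sup_comm]
        refine IsPGroup.to_sup_of_normal_right' (IsPGroup.of_card (n := k) (by simpa using hk))
          (P.isPGroup'.to_inf_left) ?_
        rw [Subgroup.zpowers_le]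
        exact hx.1
      obtain ⟨g, hg⟩ := exists_conj_le_sylow P hp
      refine Subgroup.mem_sup_right (Subgroup.mem_iSup_of_mem g⁻¹ (Subgroup.mem_inf.mpr ⟨haP, ?_⟩))
      rw [inv_mul_conj_eq_commutatorElement]
      refine ⟨⁅g * a⁻¹ * g⁻¹, g * x⁻¹ * g⁻¹⁆, Subgroup.commutator_mem_commutator
        (hg _ (Subgroup.mem_sup_left (inv_mem ha)))
        (hg _ (Subgroup.mem_sup_right (inv_mem (Subgroup.mem_zpowers x)))), ?_⟩
      simp only [commutatorElement_def, MulEquiv.toMonoidHom_eq_coe, MonoidHom.coe_coe,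
        MulAut.conj_apply]
      group
  · rw [Subgroup.map_commutator]
    exact Subgroup.commutator_mono le_top le_top

end CL.Tr
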