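import Cfsg.Agent.PLOC.FrobeniusNPC

/-!
Itô's theorem: minimal non-`p`-nilpotent groups are minimal non-nilpotent with a normal Sylow `p`-subgroup.
-/

set_option autoImplicit false

namespace CL.Tr
open Cfsg
open scoped commutatorElement Pointwise

variable {G : Type*} [Group G] {p : ℕ}

/-- Structure of a minimal non-`p`-nilpotent group: `G = P ⟨g⟩` with `P` a normal Sylow `p`-subgroup and `g` a
`q`-element acting on `P` as an automorphism of order `q`. -/
theorem exists_structure_of_minimal_not_hasNPC [Finite G] [Fact p.Prime]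
    (h1 : ¬ HasNormalPComplement p G) (h2 : ∀ H : Subgroup G, H ≠ ⊤ → HasNormalPComplement p H)
    (P : Sylow p G) :
    (P : Subgroup G).Normal ∧ ∃ (q k : ℕ) (g : G), q.Prime ∧ q ≠ p ∧ orderOf g = q ^ (k + 1) ∧
      (P : Subgroup G) ⊔ Subgroup.zpowers g = ⊤ ∧
      g ∉ Subgroup.centralizer ((P : Subgroup G) : Set G) ∧
      g ^ q ∈ Subgroup.centralizer ((P : Subgroup G) : Set G) := by
  obtain ⟨Q, q, k, g, hQ, hq, hqp, ho, hg, hn, hgq⟩ := exists_prime_acting_of_not_hasNPC P h1
  have hc : (orderOf g).Coprime p := by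
    rw [ho]
    exact ((Nat.coprime_primes hq Fact.out).mpr hqp).pow_left _
  have htop : Q ⊔ Subgroup.zpowers g = ⊤ := by
    by_contra hne
    exact hn (mem_centralizer_of_hasNPC_subgroup (h2 _ hne) (P.isPGroup'.to_le hQ) le_sup_left
      (Subgroup.mem_sup_right (Subgroup.mem_zpowers g)) hg hc)
  have hQn : Q.Normal := by
    rw [← Subgroup.normalizer_eq_top_iff, eq_top_iff, ← htop]
    exact sup_le Subgroup.le_normalizer (Subgroup.zpowers_le.mpr hg)
  have := Fact.mk hq
  have hGQ : IsPGroup q (G ⧸ Q) :=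
    isPGroup_quotient_of_sup_eq_top Q (IsPGroup.of_card (n := k + 1) (by simpa using ho)) htop
  have hPQ : (P : Subgroup G) = Q := by
    refine le_antisymm (fun x hx => ?_) hQ
    rw [← QuotientGroup.eq_one_iff, ← orderOf_eq_one_iff]
    obtain ⟨a, ha⟩ := hGQ (x : G ⧸ Q)
    obtain ⟨b, hb⟩ := P.isPGroup' ⟨x, hx⟩
    have hb' : (x : G ⧸ Q) ^ p ^ b = 1 := by
      rw [← QuotientGroup.mk_pow, show x ^ p ^ b = 1 from congrArg Subtype.val hb,
        QuotientGroup.mk_one]
    exact Nat.eq_one_of_dvd_coprimes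
      (Nat.Coprime.pow a b ((Nat.coprime_primes hq Fact.out).mpr hqp))
      (orderOf_dvd_of_pow_eq_one ha) (orderOf_dvd_of_pow_eq_one hb')
  rw [hPQ]
  exact ⟨hQn, q, k, g, hq, hqp, ho, htop, hn, hgq⟩

/-- If `P` is a normal `p`-subgroup with nilpotent quotient, the subgroups with a normal `p`-complement are
nilpotent. -/
theorem isNilpotent_of_hasNPC_of_normal [Finite G] [Fact p.Prime] {P : Subgroup G} [P.Normal]
    (hP : IsPGroup p P) [Group.IsNilpotent (G ⧸ P)] {H : Subgroup G}
    (h : HasNormalPComplement p H) : Group.IsNilpotent H := by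
  have : Group.IsNilpotent (H ⧸ pResidual p H) :=
    (isPGroup_quotient_pResidual (p := p) (G := H)).isNilpotent
  refine Subgroup.isNilpotent_of_ker_le_center ((QuotientGroup.mk' (pResidual p H)).prod
    ((QuotientGroup.mk' P).comp H.subtype)) fun x hx => ?_
  rw [MonoidHom.mem_ker, Prod.ext_iff] at hx
  have h3 := hasNPC_iff_forall_mem_pResidual.mp h x ((QuotientGroup.eq_one_iff x).mp hx.1)
  obtain ⟨b, hb⟩ := hP ⟨x, (QuotientGroup.eq_one_iff (N := P) (x : G)).mp hx.2⟩
  have hb' : x ^ p ^ b = 1 := Subtype.ext (congrArg Subtype.val hb :)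
  have : x = 1 := orderOf_eq_one_iff.mp
    (Nat.eq_one_of_dvd_coprimes (h3.pow_right b) dvd_rfl (orderOf_dvd_of_pow_eq_one hb'))
  rw [this]
  exact Subgroup.one_mem _

/-- **Itô's theorem**. -/
theorem isNilpotent_of_minimal_not_hasNPC [Finite G] [Fact p.Prime]
    (h1 : ¬ HasNormalPComplement p G) (h2 : ∀ H : Subgroup G, H ≠ ⊤ → HasNormalPComplement p H)
    (H : Subgroup G) (hH : H ≠ ⊤) : Group.IsNilpotent H := by
  obtain ⟨P⟩ : Nonempty (Sylow p G) := inferInstance
  obtain ⟨hn, q, k, g, hq, -, ho, htop, -⟩ := exists_structure_of_minimal_not_hasNPC h1 h2 P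
  have := Fact.mk hq
  have := (isPGroup_quotient_of_sup_eq_top (P : Subgroup G)
    (IsPGroup.of_card (p := q) (n := k + 1) (by simpa using ho)) htop).isNilpotent
  exact isNilpotent_of_hasNPC_of_normal P.isPGroup' (h2 H hH)

end CL.Tr
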